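import Mathlib.Algebra.Category.Grp.Abelian
import Mathlib.Algebra.Homology.HomologicalComplexAbelian
import Mathlib.Algebra.Homology.ShortComplex.Ab
import Mathlib.Algebra.Homology.Embedding.Basic
import Mathlib.Order.WithBotTop
import Mathlib.Data.Int.Interval
import Mathlib.Tactic.Abel
import Mathlib.Tactic.Ring

/-!
# The total complex of a first quadrant bicomplex of abelian groups, filtered by columns
-/

set_option linter.style.haveILetI false

universe v

open CategoryTheory Limits

noncomputable section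

namespace Groth.Agent.SpSeqE1

/-- A bicomplex of abelian groups in the first quadrant, as a sequence of columns. -/
structure Bicx where
  /-- The columns. -/
  col : ℕ → CochainComplex AddCommGrpCat.{v} ℕ
  /-- The horizontal differential. -/
  δ : ∀ p, col p ⟶ col (p + 1)
  δ_δ : ∀ p, δ p ≫ δ (p + 1) = 0

/-- The abelian group of all families of elements of a complex. -/
abbrev Fam (M : CochainComplex AddCommGrpCat.{v} ℕ) : Type v := ∀ q : ℕ, M.X q

/-- The differential on families. -/
def dFam (M : CochainComplex AddCommGrpCat.{v} ℕ) : Fam M →+ Fam M :=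
  AddMonoidHom.mk' (fun y q => match q with
    | 0 => 0
    | q + 1 => M.d q (q + 1) (y q))
    fun a b => funext fun q => by
      cases q with
      | zero => exact (add_zero 0).symm
      | succ q => exact map_add (M.d q (q + 1)).hom _ _

@[simp] theorem dFam_zero (M : CochainComplex AddCommGrpCat.{v} ℕ) (y : Fam M) :
    dFam M y 0 = 0 := rfl

@[simp] theorem dFam_succ (M : CochainComplex AddCommGrpCat.{v} ℕ) (y : Fam M) (q : ℕ) :
    dFam M y (q + 1) = M.d q (q + 1) (y q) := rfl

theorem dFam_dFam (M : CochainComplex AddCommGrpCat.{v} ℕ) (y : Fam M) :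
    dFam M (dFam M y) = 0 := by
  funext q
  match q with
  | 0 => rfl
  | 1 => exact map_zero (M.d 0 1).hom
  | q + 2 => exact ConcreteCategory.congr_hom (M.d_comp_d q (q + 1) (q + 2)) (y q)

namespace Bicx

variable (B : Bicx.{v})

/-- All families of elements of a bicomplex. -/
abbrev All : Type v := ∀ p : ℕ, Fam (B.col p)

/-- The horizontal differential on families. -/
def dh : B.All →+ B.All :=
  AddMonoidHom.mk' (fun x p => match p with
    | 0 => 0
    | p + 1 => fun q => (B.δ p).f q (x p q))
    fun a b => funext fun p => by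
      cases p with
      | zero => exact (add_zero 0).symm
      | succ p => exact funext fun q => map_add ((B.δ p).f q).hom _ _

/-- The vertical differential on families, with its signs. -/
def dv : B.All →+ B.All :=
  AddMonoidHom.mk' (fun x p => ((-1) ^ p : ℤ) • dFam (B.col p) (x p))
    fun a b => funext fun p => by
      simp only [Pi.add_apply, map_add, smul_add]

@[simp] theorem dh_zero (x : B.All) (q : ℕ) : B.dh x 0 q = 0 := rfl

@[simp] theorem dh_succ (x : B.All) (p q : ℕ) : B.dh x (p + 1) q = (B.δ p).f q (x p q) := rfl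

theorem dv_apply (x : B.All) (p q : ℕ) :
    B.dv x p q = ((-1) ^ p : ℤ) • dFam (B.col p) (x p) q := rfl

/-- The total differential. -/
def D : B.All →+ B.All := B.dh + B.dv

theorem D_apply (x : B.All) (p q : ℕ) : B.D x p q = B.dh x p q + B.dv x p q := rfl

theorem dh_dh (x : B.All) : B.dh (B.dh x) = 0 := by
  funext p q
  match p with
  | 0 => rfl
  | 1 => exact map_zero ((B.δ 0).f q).hom
  | p + 2 =>
    exact ConcreteCategory.congr_hom (congrArg (fun φ => HomologicalComplex.Hom.f φ q) (B.δ_δ p)) (x p q)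

theorem dv_dv (x : B.All) : B.dv (B.dv x) = 0 := by
  funext p q
  have h : dFam (B.col p) (B.dv x p) = ((-1) ^ p : ℤ) • dFam (B.col p) (dFam (B.col p) (x p)) :=
    map_zsmul (dFam (B.col p)) _ _
  rw [dv_apply, h, dFam_dFam, smul_zero]
  simp

theorem dh_dv_anticomm (x : B.All) : B.dh (B.dv x) + B.dv (B.dh x) = 0 := by
  funext p q
  rw [Pi.add_apply, Pi.add_apply, dv_apply]
  match p, q with
  | 0, q =>
    rw [dh_zero, show B.dh x 0 = 0 from rfl, map_zero]
    simp
  | p + 1, 0 =>
    rw [dh_succ, dv_apply, dFam_zero, smul_zero, map_zero, dFam_zero, smul_zero, add_zero]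
    rfl
  | p + 1, q + 1 =>
    rw [dh_succ, dv_apply, dFam_succ, dFam_succ, dh_succ]
    have h : (B.δ p).f (q + 1) ((B.col p).d q (q + 1) (x p q)) =
        (B.col (p + 1)).d q (q + 1) ((B.δ p).f q (x p q)) :=
      ConcreteCategory.congr_hom ((B.δ p).comm q (q + 1)).symm (x p q)
    rw [map_zsmul, h, pow_succ, mul_neg_one, neg_zsmul, add_neg_cancel]
    rfl

theorem D_D (x : B.All) : B.D (B.D x) = 0 := by
  show B.dh (B.dh x + B.dv x) + B.dv (B.dh x + B.dv x) = 0
  rw [map_add, map_add, dh_dh, dv_dv, zero_add, add_zero, dh_dv_anticomm]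

/-- The elements of total degree `n` living in the columns `p ≥ -j`. -/
def tot (j : EInt) (n : ℤ) : AddSubgroup B.All where
  carrier := {x | ∀ p q : ℕ, ¬((p + q : ℤ) = n ∧ ((-(p : ℤ) : ℤ) : EInt) ≤ j) → x p q = 0}
  zero_mem' := fun _ _ _ => rfl
  add_mem' := fun {a b} ha hb p q h => by
    show a p q + b p q = 0
    rw [ha p q h, hb p q h, add_zero]
  neg_mem' := fun {a} ha p q h => by
    show -a p q = 0
    rw [ha p q h, neg_zero]

theorem tot_mono {i j : EInt} (h : i ≤ j) (n : ℤ) : B.tot i n ≤ B.tot j n :=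
  fun _ hx p q hpq => hx p q fun h' => hpq ⟨h'.1, h'.2.trans h⟩

theorem D_mem {j : EInt} {n : ℤ} {x : B.All} (hx : x ∈ B.tot j n) :
    B.D x ∈ B.tot j (n + 1) := by
  intro p q h
  rw [D_apply]
  have h1 : B.dh x p q = 0 := by
    cases p with
    | zero => rfl
    | succ p =>
      rw [dh_succ, hx p q fun h' => h ⟨by push_cast; lia, le_trans
        (WithBotTop.coe_le_coe.2 (by lia)) h'.2⟩, map_zero]
  have h2 : B.dv x p q = 0 := by
    rw [dv_apply]
    cases q with
    | zero => rw [dFam_zero, smul_zero]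
    | succ q =>
      rw [dFam_succ, hx p q fun h' => h ⟨by push_cast; lia, h'.2⟩, map_zero, smul_zero]
  rw [h1, h2, add_zero]

/-- The differential of the total complex, in any two degrees. -/
def dTot (j : EInt) (n m : ℤ) : B.tot j n →+ B.tot j m :=
  if h : n + 1 = m then (B.D.comp (B.tot j n).subtype).codRestrict _ fun x => h ▸ B.D_mem x.2
  else 0

theorem dTot_val (j : EInt) (n m : ℤ) (h : n + 1 = m) (x : B.tot j n) :
    (B.dTot j n m x).1 = B.D x.1 := by
  rw [dTot, dif_pos h]
  rfl

/-- The total complex of the columns `p ≥ -j`. -/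
def totCx (j : EInt) : CochainComplex AddCommGrpCat.{v} ℤ where
  X n := AddCommGrpCat.of (B.tot j n)
  d n m := AddCommGrpCat.ofHom (B.dTot j n m)
  shape n m h := by
    have h' : ¬n + 1 = m := h
    rw [dTot, dif_neg h']
    rfl
  d_comp_d' n m k h h' := AddCommGrpCat.hom_ext (AddMonoidHom.ext fun x => Subtype.ext (by
    show (B.dTot j m k (B.dTot j n m x)).1 = 0
    rw [dTot_val B j m k h', dTot_val B j n m h]
    exact B.D_D x.1))

theorem totCx_d_val (j : EInt) (n m : ℤ) (h : n + 1 = m) (x : B.tot j n) :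
    ((B.totCx j).d n m x : B.tot j m).1 = B.D x.1 :=
  B.dTot_val j n m h x

/-- The inclusion of a step in a larger one. -/
def totMap {i j : EInt} (h : i ≤ j) : B.totCx i ⟶ B.totCx j where
  f n := AddCommGrpCat.ofHom (AddSubgroup.inclusion (B.tot_mono h n))
  comm' n m hnm := AddCommGrpCat.hom_ext (AddMonoidHom.ext fun (x : B.tot i n) => Subtype.ext (by
    show (B.dTot j n m (AddSubgroup.inclusion (B.tot_mono h n) x)).1 = (B.dTot i n m x).1
    rw [dTot_val B j n m hnm, dTot_val B i n m hnm]
    rfl))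

theorem totMap_f_val {i j : EInt} (h : i ≤ j) (n : ℤ) (x : B.tot i n) :
    ((B.totMap h).f n x : B.tot j n).1 = x.1 := rfl

theorem totMap_comp {i j k : EInt} (h : i ≤ j) (h' : j ≤ k) :
    B.totMap h ≫ B.totMap h' = B.totMap (h.trans h') := by
  ext n x
  rfl

theorem totMap_id (i : EInt) : B.totMap (le_refl i) = 𝟙 _ := by
  ext n x
  rfl

/-- The filtered total complex, as a functor. -/
def totFunctor : EInt ⥤ CochainComplex AddCommGrpCat.{v} ℤ where
  obj j := B.totCx j
  map f := B.totMap (leOfHom f)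
  map_id j := B.totMap_id j
  map_comp f g := (B.totMap_comp (leOfHom f) (leOfHom g)).symm

end Bicx

/-- The families concentrated in the degree `n`, for a complex placed in column `p`. -/
def colPart (M : CochainComplex AddCommGrpCat.{v} ℕ) (p : ℕ) (n : ℤ) : AddSubgroup (Fam M) where
  carrier := {y | ∀ q : ℕ, (p + q : ℤ) ≠ n → y q = 0}
  zero_mem' := fun _ _ => rfl
  add_mem' := fun {a b} ha hb q h => by
    show a q + b q = 0
    rw [ha q h, hb q h, add_zero]
  neg_mem' := fun {a} ha q h => by
    show -a q = 0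
    rw [ha q h, neg_zero]

theorem dFam_mem {M : CochainComplex AddCommGrpCat.{v} ℕ} {p : ℕ} {n : ℤ} {y : Fam M}
    (hy : y ∈ colPart M p n) : ((-1) ^ p : ℤ) • dFam M y ∈ colPart M p (n + 1) := by
  refine AddSubgroup.zsmul_mem _ (show dFam M y ∈ colPart M p (n + 1) from fun q h => ?_) _
  cases q with
  | zero => rfl
  | succ q => rw [dFam_succ, hy q (fun h' => h (by push_cast; lia)), map_zero]

/-- The differential of a column, in any two degrees. -/
def dCol (M : CochainComplex AddCommGrpCat.{v} ℕ) (p : ℕ) (n m : ℤ) :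
    colPart M p n →+ colPart M p m :=
  if h : n + 1 = m then
    ((((-1) ^ p : ℤ) • dFam M).comp (colPart M p n).subtype).codRestrict _
      fun y => h ▸ dFam_mem y.2
  else 0

theorem dCol_val (M : CochainComplex AddCommGrpCat.{v} ℕ) (p : ℕ) (n m : ℤ) (h : n + 1 = m)
    (y : colPart M p n) : (dCol M p n m y).1 = ((-1) ^ p : ℤ) • dFam M y.1 := by
  rw [dCol, dif_pos h]
  rfl

/-- A complex placed in column `p`. -/
def colCx (M : CochainComplex AddCommGrpCat.{v} ℕ) (p : ℕ) :
    CochainComplex AddCommGrpCat.{v} ℤ where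
  X n := AddCommGrpCat.of (colPart M p n)
  d n m := AddCommGrpCat.ofHom (dCol M p n m)
  shape n m h := by
    have h' : ¬n + 1 = m := h
    rw [dCol, dif_neg h']
    rfl
  d_comp_d' n m k h h' := AddCommGrpCat.hom_ext (AddMonoidHom.ext fun x => Subtype.ext (by
    show (dCol M p m k (dCol M p n m x)).1 = 0
    rw [dCol_val M p m k h', dCol_val M p n m h, map_zsmul, dFam_dFam, smul_zero, smul_zero]))

theorem colCx_d_val (M : CochainComplex AddCommGrpCat.{v} ℕ) (p : ℕ) (n m : ℤ) (h : n + 1 = m)
    (x : colPart M p n) :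
    ((colCx M p).d n m x : colPart M p m).1 = ((-1) ^ p : ℤ) • dFam M x.1 :=
  dCol_val M p n m h x

namespace Bicx

variable (B : Bicx.{v})

theorem proj_mem (p : ℕ) (n : ℤ) {x : B.All} (hx : x ∈ B.tot ((-(p : ℤ) : ℤ) : EInt) n) :
    x p ∈ colPart (B.col p) p n :=
  fun q h => hx p q fun h' => h h'.1

/-- The projection to a column. -/
def toCol (p : ℕ) : B.totCx ((-(p : ℤ) : ℤ) : EInt) ⟶ colCx (B.col p) p where
  f n := AddCommGrpCat.ofHom
    (((Pi.evalAddMonoidHom (fun p => Fam (B.col p)) p).comp (B.tot _ n).subtype).codRestrict _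
      fun x => B.proj_mem p n x.2)
  comm' n m hnm := AddCommGrpCat.hom_ext (AddMonoidHom.ext fun (x : B.tot ((-(p : ℤ) : ℤ) : EInt) n) => Subtype.ext (funext fun q => by
    show (dCol (B.col p) p n m ⟨x.1 p, B.proj_mem p n x.2⟩).1 q = (B.dTot _ n m x).1 p q
    rw [dCol_val _ p n m hnm, dTot_val B _ n m hnm, D_apply, dv_apply]
    have h1 : B.dh x.1 p q = 0 := by
      cases p with
      | zero => rfl
      | succ p =>
        rw [dh_succ, x.2 p q fun h' => absurd (WithBotTop.coe_le_coe.1 h'.2) (by push_cast; lia),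
          map_zero]
    rw [h1, zero_add]
    rfl))

theorem toCol_f_val (p : ℕ) (n : ℤ) (x : B.tot ((-(p : ℤ) : ℤ) : EInt) n) :
    ((B.toCol p).f n x : colPart (B.col p) p n).1 = x.1 p := rfl

/-- The step, the next one and the column between them. -/
def colSeq (p : ℕ) : ShortComplex (CochainComplex AddCommGrpCat.{v} ℤ) :=
  ShortComplex.mk (B.totMap (i := ((-(p : ℤ) - 1 : ℤ) : EInt)) (WithBotTop.coe_le_coe.2 (by lia)))
    (B.toCol p) (by
      ext n x
      refine Subtype.ext (funext fun q => ?_)
      exact x.2 p q fun h' => absurd (WithBotTop.coe_le_coe.1 h'.2) (by lia))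

theorem colSeq_shortExact (p : ℕ) : (B.colSeq p).ShortExact := by
  refine HomologicalComplex.shortExact_of_degreewise_shortExact _ fun n => ?_
  refine ShortComplex.ShortExact.mk' ?_ ?_ ?_
  · rw [ShortComplex.ab_exact_iff]
    intro x hx
    refine ⟨⟨x.1, fun p' q h => ?_⟩, Subtype.ext rfl⟩
    by_cases hp : p' = p
    · subst hp
      exact congrFun (congrArg Subtype.val hx) q
    · exact x.2 p' q fun h' => h ⟨h'.1, WithBotTop.coe_le_coe.2 (by
        have := WithBotTop.coe_le_coe.1 h'.2
        lia)⟩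
  · exact (AddCommGrpCat.mono_iff_injective _).2 fun a b e =>
      Subtype.ext (congrArg (fun z : B.tot ((-(p : ℤ) : ℤ) : EInt) n => z.1) e)
  · refine (AddCommGrpCat.epi_iff_surjective _).2 fun y => ⟨⟨Pi.single p y.1, fun p' q h => ?_⟩, ?_⟩
    · by_cases hp : p' = p
      · subst hp
        rw [Pi.single_eq_same]
        exact y.2 q fun h' => h ⟨h', le_refl _⟩
      · rw [Pi.single_eq_of_ne hp]
        rfl
    · refine Subtype.ext ?_
      exact Pi.single_eq_same (M := fun i => Fam (B.col i)) p _

end Bicx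

end Groth.Agent.SpSeqE1
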