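import Groth.Agent.SpSeqE1.Core
import Groth.Agent.SpSeqE1.Total
import Groth.Agent.SpSeqLib.Truncation
import Mathlib.Algebra.Homology.HomotopyCategory.SpectralObject
import Mathlib.Algebra.Homology.HomotopyCategory.ShortExact
import Mathlib.Algebra.Homology.HomotopyCategory.ShiftSequence
import Mathlib.GroupTheory.QuotientGroup.Basic
import Mathlib.Algebra.Category.Grp.Zero

/-!
# The spectral sequence of a bicomplex with exact augmented rows

If the rows of a first quadrant bicomplex of abelian groups are exact once augmented by a complex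
`L`, there is a spectral sequence whose first page consists of the cohomology of the columns and
which abuts to the cohomology of `L`.
-/

set_option linter.style.haveILetI false

universe v

open CategoryTheory Limits ComposableArrows
open scoped ZeroObject

noncomputable section

namespace Groth.Agent.SpSeqE1

/-- An isomorphism in homology from a map on the middle terms. -/
theorem nonempty_homology_iso_of_hom (S T : ShortComplex AddCommGrpCat.{v}) (φ : S.X₂ →+ T.X₂)
    (hk : ∀ x, S.g x = 0 → T.g (φ x) = 0)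
    (surj : ∀ z, T.g z = 0 → ∃ x, S.g x = 0 ∧ ∃ y, T.f y = z - φ x)
    (inj : ∀ x, S.g x = 0 → ((∃ y, T.f y = φ x) ↔ ∃ w, S.f w = x)) :
    Nonempty (S.homology ≅ T.homology) := by
  let ψ : AddMonoidHom.ker S.g.hom →+
      (AddMonoidHom.ker T.g.hom) ⧸ AddMonoidHom.range T.abToCycles :=
    (QuotientAddGroup.mk' _).comp ((φ.comp (AddMonoidHom.ker S.g.hom).subtype).codRestrict _
      fun x => hk x.1 x.2)
  have hsurj : Function.Surjective ψ := fun z => by
    obtain ⟨⟨z, hz⟩, rfl⟩ := QuotientAddGroup.mk'_surjective _ z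
    obtain ⟨x, hx, y, hy⟩ := surj z hz
    exact ⟨⟨x, hx⟩, QuotientAddGroup.eq.2 ⟨y, Subtype.ext (hy.trans (by
      show z - φ x = -φ x + z
      abel))⟩⟩
  have hker : AddMonoidHom.range S.abToCycles = ψ.ker := by
    ext ⟨x, hx⟩
    constructor
    · rintro ⟨w, hw⟩
      obtain ⟨y, hy⟩ := (inj x hx).2 ⟨w, congrArg Subtype.val hw⟩
      exact (QuotientAddGroup.eq_zero_iff _).2 ⟨y, Subtype.ext hy⟩
    · intro h
      obtain ⟨y, hy⟩ := (QuotientAddGroup.eq_zero_iff _).1 (AddMonoidHom.mem_ker.1 h)
      obtain ⟨w, hw⟩ := (inj x hx).1 ⟨y, congrArg Subtype.val hy⟩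
      exact ⟨w, Subtype.ext hw⟩
  exact ⟨S.abHomologyIso ≪≫ ((QuotientAddGroup.quotientAddEquivOfEq hker).trans
    (QuotientAddGroup.quotientKerEquivOfSurjective ψ hsurj)).toAddCommGrpIso ≪≫
    T.abHomologyIso.symm⟩

/-- The homology of a complex in a degree, as the homology of three explicit terms. -/
def homologyScIso (C : CochainComplex AddCommGrpCat.{v} ℤ) (n : ℤ) :
    C.homology n ≅ (C.sc' (n - 1) n (n + 1)).homology :=
  ShortComplex.homologyMapIso (C.isoSc' (n - 1) n (n + 1) (by simp) (by simp))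

theorem exists_d_prev_iff (M : CochainComplex AddCommGrpCat.{v} ℕ) (q : ℕ) (x : M.X q) :
    (∃ w, (M.sc q).f w = x) ↔ ∃ w : Fam M, dFam M w q = x := by
  cases q with
  | zero =>
    have h : ¬(ComplexShape.up ℕ).Rel ((ComplexShape.up ℕ).prev 0) 0 := by simp
    constructor
    · rintro ⟨w, hw⟩
      refine ⟨0, (dFam_zero M 0).trans ?_⟩
      rw [← hw]
      show (0 : M.X 0) = M.d _ 0 w
      rw [M.shape _ _ h]
      rfl
    · rintro ⟨w, hw⟩
      exact ⟨0, (map_zero _).trans hw⟩
  | succ q =>
    have h : (ComplexShape.up ℕ).prev (q + 1) = q := CochainComplex.prev_nat_succ q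
    show (∃ w, M.d ((ComplexShape.up ℕ).prev (q + 1)) (q + 1) w = x) ↔ _
    rw [h]
    constructor
    · rintro ⟨w, hw⟩
      exact ⟨Pi.single q w, (dFam_succ M _ q).trans (by rw [Pi.single_eq_same]; exact hw)⟩
    · rintro ⟨w, hw⟩
      exact ⟨w q, (dFam_succ M w q).symm.trans hw⟩

theorem g_eq_zero_iff (M : CochainComplex AddCommGrpCat.{v} ℕ) (q : ℕ) (x : M.X q) :
    (M.sc q).g x = 0 ↔ M.d q (q + 1) x = 0 := by
  show M.d q ((ComplexShape.up ℕ).next q) x = 0 ↔ _
  rw [CochainComplex.next]

theorem subsingleton_colPart (M : CochainComplex AddCommGrpCat.{v} ℕ) (p : ℕ) (n : ℤ) (hn : n < p) :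
    Subsingleton (colPart M p n) :=
  ⟨fun a b => Subtype.ext (funext fun q => (a.2 q (by lia)).trans (b.2 q (by lia)).symm)⟩

/-- The cohomology of a column. -/
theorem nonempty_colCx_homology_iso (M : CochainComplex AddCommGrpCat.{v} ℕ) (p q : ℕ) :
    Nonempty (M.homology q ≅ (colCx M p).homology (p + q : ℤ)) := by
  have hu : IsUnit ((-1) ^ p : ℤ) := IsUnit.pow _ (Int.isUnit_iff.2 (Or.inr rfl))
  have hsupp : ∀ x : M.X q, (Pi.single q x : Fam M) ∈ colPart M p (p + q : ℤ) := fun x q' h => by
    rw [Pi.single_eq_of_ne fun e => h (by rw [e])]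
  let φ : M.X q →+ colPart M p (p + q : ℤ) :=
    (AddMonoidHom.single (fun q => (M.X q : Type v)) q).codRestrict _ hsupp
  have hd : ∀ x : M.X q,
      (((colCx M p).d (p + q : ℤ) (p + q + 1 : ℤ) (φ x) : colPart M p (p + q + 1 : ℤ))).1 (q + 1) =
        ((-1) ^ p : ℤ) • M.d q (q + 1) x := fun x => by
    rw [colCx_d_val M p _ _ rfl]
    show ((-1) ^ p : ℤ) • dFam M (Pi.single q x) (q + 1) = _
    rw [dFam_succ, Pi.single_eq_same]
  obtain ⟨i⟩ := nonempty_homology_iso_of_hom (M.sc q)
    ((colCx M p).sc' (p + q - 1 : ℤ) (p + q : ℤ) (p + q + 1 : ℤ)) φ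
    (fun x hx => by
      refine Subtype.ext (funext fun q' => ?_)
      by_cases h : q' = q + 1
      · subst h
        refine (hd x).trans ?_
        rw [(g_eq_zero_iff M q x).1 hx, smul_zero]
        rfl
      · exact ((colCx M p).d (p + q : ℤ) (p + q + 1 : ℤ) (φ x) : colPart M p _).2 q'
          fun e => h (by lia))
    (fun z hz => by
      have hz1 : ((-1) ^ p : ℤ) • dFam M (z : colPart M p _).1 (q + 1) = 0 :=
        (congrFun (colCx_d_val M p _ _ rfl z) (q + 1)).symm.trans
          (congrFun (congrArg Subtype.val hz) (q + 1))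
      refine ⟨(z : colPart M p _).1 q, (g_eq_zero_iff M q _).2 ?_, 0, (map_zero _).trans ?_⟩
      · rw [dFam_succ] at hz1
        exact hu.smul_left_cancel.1 (hz1.trans (smul_zero _).symm)
      · refine (sub_eq_zero.2 (Subtype.ext (funext fun q' => ?_))).symm
        show (z : colPart M p _).1 q' =
          Pi.single (M := fun q => (M.X q : Type v)) q ((z : colPart M p _).1 q) q'
        by_cases h : q' = q
        · subst h
          rw [Pi.single_eq_same]
        · rw [Pi.single_eq_of_ne h]
          exact (z : colPart M p _).2 q' fun e => h (by lia))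
    (fun (x : M.X q) _ => by
      refine Iff.trans ?_ (exists_d_prev_iff M q x).symm
      constructor
      · rintro ⟨y, hy⟩
        refine ⟨((-1) ^ p : ℤ) • (y : colPart M p _).1, ?_⟩
        rw [map_zsmul]
        refine ((congrFun (colCx_d_val M p _ _ (by lia) y) q).symm.trans
          (congrFun (congrArg Subtype.val hy) q)).trans ?_
        exact Pi.single_eq_same _ _
      · rintro ⟨w, hw⟩
        refine ⟨⟨((-1) ^ p : ℤ) • fun q' : ℕ => if (p + q' : ℤ) = (p + q - 1 : ℤ) then w q' else 0,
          AddSubgroup.zsmul_mem _ (show _ ∈ colPart M p _ from fun q' h => if_neg h) _⟩,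
          Subtype.ext ?_⟩
        refine (colCx_d_val M p _ _ (by lia) _).trans ?_
        show ((-1) ^ p : ℤ) • dFam M (((-1) ^ p : ℤ) •
          fun q' : ℕ => if (p + q' : ℤ) = (p + q - 1 : ℤ) then w q' else 0) = Pi.single q x
        rw [map_zsmul, smul_smul, ← mul_pow, neg_mul_neg, one_mul, one_pow, one_smul]
        funext q'
        cases q' with
        | zero =>
          rw [dFam_zero]
          by_cases h : 0 = q
          · subst h
            rw [Pi.single_eq_same, ← hw, dFam_zero]
          · rw [Pi.single_eq_of_ne h]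
        | succ q' =>
          rw [dFam_succ]
          by_cases h : q' + 1 = q
          · subst h
            rw [Pi.single_eq_same, if_pos (by push_cast; ring), ← hw, dFam_succ]
          · rw [Pi.single_eq_of_ne h, if_neg (by lia), map_zero])
  exact ⟨i ≪≫ (homologyScIso _ _).symm⟩

theorem isZero_colCx_homology (M : CochainComplex AddCommGrpCat.{v} ℕ) (p : ℕ) (n : ℤ)
    (hn : n < p) : IsZero ((colCx M p).homology n) := by
  haveI := subsingleton_colPart M p n hn
  rw [← HomologicalComplex.exactAt_iff_isZero_homology]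
  exact ShortComplex.exact_of_isZero_X₂ _
    (AddCommGrpCat.isZero_of_subsingleton (AddCommGrpCat.of (colPart M p n)))

/-- A bicomplex with an augmentation of its rows by a complex. -/
structure AugBicx extends Bicx.{v} where
  /-- The augmentation. -/
  L : CochainComplex AddCommGrpCat.{v} ℕ
  /-- The augmentation map. -/
  ε : L ⟶ col 0
  ε_δ : ε ≫ δ 0 = 0
  mono_ε : ∀ q, Function.Injective (ε.f q)
  exact_zero : ∀ q (x : (col 0).X q), (δ 0).f q x = 0 → ∃ l, ε.f q l = x
  exact_succ : ∀ p q (x : (col (p + 1)).X q), (δ (p + 1)).f q x = 0 → ∃ y, (δ p).f q y = x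

namespace AugBicx

variable (A : AugBicx.{v})

/-- Removing the columns `p ≥ 1` of a family whose differential lives in column zero. -/
theorem reduce (n : ℤ) : ∀ (m : ℕ) (x : A.All), x ∈ A.tot ⊤ n → (∀ p q, m < p → x p q = 0) →
    (∀ p q, A.D x (p + 1) q = 0) →
    ∃ w ∈ A.tot ⊤ (n - 1), ∀ p q, (x - A.D w) (p + 1) q = 0
  | 0, x, _, hm, _ => ⟨0, zero_mem _, fun p q => by
      rw [map_zero, sub_zero]
      exact hm _ _ p.succ_pos⟩
  | m + 1, x, hx, hm, hD => by
    by_cases hn : (m + 1 : ℤ) ≤ n
    · obtain ⟨r, hr⟩ : ∃ r : ℕ, n = m + 1 + r := ⟨(n - (m + 1)).toNat, by lia⟩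
      have h0 : (A.δ (m + 1)).f r (x (m + 1) r) = 0 := by
        have h := hD (m + 1) r
        rw [Bicx.D_apply, Bicx.dh_succ, Bicx.dv_apply] at h
        refine Eq.trans ?_ h
        cases r with
        | zero => rw [dFam_zero, smul_zero, add_zero]
        | succ r => rw [dFam_succ, hm (m + 1 + 1) r (by lia), map_zero, smul_zero, add_zero]
      obtain ⟨u, hu⟩ := A.exact_succ m r _ h0
      let w₁ : A.All := Pi.single m (Pi.single r u)
      have hw₁ : w₁ ∈ A.tot ⊤ (n - 1) := fun p q h => by
        by_cases hp : p = m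
        · subst hp
          show Pi.single (M := fun p => Fam (A.col p)) p (Pi.single r u) p q = 0
          rw [Pi.single_eq_same, Pi.single_eq_of_ne fun e => h ⟨by lia, le_top⟩]
        · show Pi.single (M := fun p => Fam (A.col p)) m (Pi.single r u) p q = 0
          rw [Pi.single_eq_of_ne hp]
          rfl
      have hxw : x - A.D w₁ ∈ A.tot ⊤ n := by
        have := A.D_mem hw₁
        rw [sub_add_cancel] at this
        exact sub_mem hx this
      have hm' : ∀ p q, m < p → (x - A.D w₁) p q = 0 := fun p q hp => by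
        obtain ⟨p, rfl⟩ : ∃ p', p = p' + 1 := ⟨p - 1, by lia⟩
        rw [Pi.sub_apply, Pi.sub_apply, Bicx.D_apply, Bicx.dh_succ, Bicx.dv_apply]
        have hv : dFam (A.col (p + 1)) (w₁ (p + 1)) q = 0 := by
          show dFam (A.col (p + 1))
            (Pi.single (M := fun p => Fam (A.col p)) m (Pi.single r u) (p + 1)) q = 0
          rw [Pi.single_eq_of_ne (by lia), map_zero]
          rfl
        rw [hv, smul_zero, add_zero]
        by_cases hpm : p = m
        · subst hpm
          show x (p + 1) q -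
            (A.δ p).f q (Pi.single (M := fun p => Fam (A.col p)) p (Pi.single r u) p q) = 0
          rw [Pi.single_eq_same]
          by_cases hq : q = r
          · subst hq
            rw [Pi.single_eq_same, hu, sub_self]
          · rw [Pi.single_eq_of_ne hq, map_zero, sub_zero]
            exact hx _ _ fun h => hq (by have := h.1; push_cast at this; lia)
        · show x (p + 1) q -
            (A.δ p).f q (Pi.single (M := fun p => Fam (A.col p)) m (Pi.single r u) p q) = 0
          rw [Pi.single_eq_of_ne hpm, Pi.zero_apply, map_zero, sub_zero]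
          exact hm _ _ (by lia)
      obtain ⟨w₂, hw₂, h₂⟩ := reduce n m (x - A.D w₁) hxw hm' fun p q => by
        rw [map_sub, A.D_D, sub_zero]
        exact hD p q
      refine ⟨w₁ + w₂, add_mem hw₁ hw₂, fun p q => ?_⟩
      rw [map_add, ← sub_sub]
      exact h₂ p q
    · refine reduce n m x hx (fun p q hp => hx p q fun h => hn (by have := h.1; lia)) hD

/-- The element of column zero attached to an element of the augmentation. -/
def augHom (n : ℕ) : A.L.X n →+ A.tot ⊤ (n : ℤ) :=
  (((AddMonoidHom.single (fun p => Fam (A.col p)) 0).comp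
    ((AddMonoidHom.single (fun q => ((A.col 0).X q : Type v)) n))).comp
      (A.ε.f n).hom).codRestrict _ fun l p q h => by
    show Pi.single (M := fun p => Fam (A.col p)) 0 (Pi.single n (A.ε.f n l)) p q = 0
    by_cases hp : p = 0
    · subst hp
      rw [Pi.single_eq_same, Pi.single_eq_of_ne fun e => h ⟨by simp [e], le_top⟩]
    · rw [Pi.single_eq_of_ne hp]
      rfl

theorem augHom_zero_self (n : ℕ) (l : A.L.X n) : (A.augHom n l).1 0 n = A.ε.f n l := by
  show Pi.single (M := fun p => Fam (A.col p)) 0 (Pi.single n (A.ε.f n l)) 0 n = _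
  rw [Pi.single_eq_same, Pi.single_eq_same]

theorem augHom_succ (n : ℕ) (l : A.L.X n) (p q : ℕ) : (A.augHom n l).1 (p + 1) q = 0 := by
  show Pi.single (M := fun p => Fam (A.col p)) 0 (Pi.single n (A.ε.f n l)) (p + 1) q = 0
  rw [Pi.single_eq_of_ne p.succ_ne_zero]
  rfl

theorem eq_of_supported_zero {k : ℤ} {a b : A.All} (ha : a ∈ A.tot ⊤ k) (hb : b ∈ A.tot ⊤ k)
    (ha' : ∀ p q, a (p + 1) q = 0) (hb' : ∀ p q, b (p + 1) q = 0)
    (h : ∀ q : ℕ, (q : ℤ) = k → a 0 q = b 0 q) : a = b := by
  funext p q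
  cases p with
  | zero =>
    by_cases hk : (q : ℤ) = k
    · exact h q hk
    · rw [ha 0 q fun e => hk (by simpa using e.1), hb 0 q fun e => hk (by simpa using e.1)]
  | succ p => rw [ha', hb']

theorem D_augHom (n : ℕ) (l : A.L.X n) :
    A.D (A.augHom n l).1 = (A.augHom (n + 1) (A.L.d n (n + 1) l)).1 := by
  refine A.eq_of_supported_zero (k := ((n + 1 : ℕ) : ℤ))
    (by push_cast; exact A.D_mem (A.augHom n l).2) (A.augHom (n + 1) _).2 (fun p q => ?_)
    (fun p q => A.augHom_succ _ _ p q) (fun q hq => ?_)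
  · rw [Bicx.D_apply, Bicx.dh_succ, Bicx.dv_apply]
    have hv : dFam (A.col (p + 1)) ((A.augHom n l).1 (p + 1)) q = 0 := by
      rw [show (A.augHom n l).1 (p + 1) = 0 from funext fun q => A.augHom_succ n l p q, map_zero]
      rfl
    rw [hv, smul_zero, add_zero]
    cases p with
    | zero =>
      by_cases hq : q = n
      · subst hq
        rw [augHom_zero_self]
        exact ConcreteCategory.congr_hom
          (congrArg (fun φ => HomologicalComplex.Hom.f φ q) A.ε_δ) l
      · rw [(A.augHom n l).2 0 q fun e => hq (by have := e.1; push_cast at this; lia), map_zero]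
    | succ p => rw [augHom_succ, map_zero]
  · obtain rfl : q = n + 1 := by lia
    rw [Bicx.D_apply, Bicx.dh_zero, zero_add, Bicx.dv_apply, dFam_succ, augHom_zero_self,
      augHom_zero_self, pow_zero, one_smul]
    exact ConcreteCategory.congr_hom (A.ε.comm n (n + 1)) l

theorem vanish_above {x : A.All} {n : ℕ} (hx : x ∈ A.tot ⊤ (n : ℤ)) (p q : ℕ) (h : n < p) :
    x p q = 0 :=
  hx p q fun e => by
    have := e.1
    lia

theorem augHom_injective (n : ℕ) : Function.Injective (A.augHom n) := fun a b e =>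
  A.mono_ε n (by rw [← augHom_zero_self, ← augHom_zero_self, e])

theorem exists_augHom_eq (n : ℕ) (x : A.All) (hx : x ∈ A.tot ⊤ (n : ℤ))
    (h : ∀ p q, x (p + 1) q = 0) (hδ : A.D x 1 n = 0) : ∃ l, (A.augHom n l).1 = x := by
  have h0 : (A.δ 0).f n (x 0 n) = 0 := by
    rw [Bicx.D_apply, Bicx.dh_succ, Bicx.dv_apply,
      show x 1 = 0 from funext fun q => h 0 q, map_zero, Pi.zero_apply, smul_zero, add_zero] at hδ
    exact hδ
  obtain ⟨l, hl⟩ := A.exact_zero n _ h0
  refine ⟨l, A.eq_of_supported_zero (A.augHom n l).2 hx (fun p q => A.augHom_succ n l p q) h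
    fun q hq => ?_⟩
  obtain rfl : q = n := by lia
  rw [augHom_zero_self, hl]

/-- The cohomology of the total complex is that of the augmentation. -/
theorem nonempty_tot_homology_iso (n : ℕ) :
    Nonempty (A.L.homology n ≅ (A.totCx ⊤).homology (n : ℤ)) := by
  obtain ⟨i⟩ := nonempty_homology_iso_of_hom (A.L.sc n)
    ((A.totCx ⊤).sc' ((n : ℤ) - 1) (n : ℤ) ((n : ℤ) + 1)) (A.augHom n)
    (fun l hl => Subtype.ext (by
      refine (A.totCx_d_val ⊤ _ _ rfl _).trans ?_
      refine (A.D_augHom n l).trans ?_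
      rw [(g_eq_zero_iff A.L n l).1 hl, map_zero]
      rfl))
    (fun z hz => by
      have hDz : A.D (z : A.tot ⊤ _).1 = 0 :=
        (A.totCx_d_val ⊤ _ _ rfl z).symm.trans (congrArg Subtype.val hz)
      obtain ⟨w, hw, hw'⟩ := A.reduce _ n _ (z : A.tot ⊤ _).2
        (fun p q hp => A.vanish_above (z : A.tot ⊤ _).2 p q hp)
        (fun p q => by rw [hDz]; rfl)
      have hmem : (z : A.tot ⊤ _).1 - A.D w ∈ A.tot ⊤ (n : ℤ) := by
        have := A.D_mem hw
        rw [sub_add_cancel] at this
        exact sub_mem (z : A.tot ⊤ _).2 this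
      obtain ⟨l, hl⟩ := A.exists_augHom_eq n _ hmem hw' (by
        rw [map_sub, A.D_D, hDz, sub_zero]
        rfl)
      refine ⟨l, (g_eq_zero_iff A.L n l).2 (A.augHom_injective (n + 1) (Subtype.ext ?_)),
        ⟨w, hw⟩, Subtype.ext ?_⟩
      · rw [← D_augHom, hl, map_sub, A.D_D, hDz, sub_zero, map_zero]
        rfl
      · refine (A.totCx_d_val ⊤ _ _ (by lia) _).trans ?_
        show A.D w = (z : A.tot ⊤ _).1 - (A.augHom n l).1
        rw [hl, sub_sub_cancel])
    (fun l hl => by
      refine Iff.trans ?_ (exists_d_prev_iff A.L n l).symm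
      constructor
      · rintro ⟨y, hy⟩
        have hy' : A.D (y : A.tot ⊤ _).1 = (A.augHom n l).1 :=
          (A.totCx_d_val ⊤ _ _ (by lia) y).symm.trans (congrArg Subtype.val hy)
        cases n with
        | zero =>
          have h0 : (y : A.tot ⊤ _).1 = 0 := funext fun p => funext fun q =>
            (y : A.tot ⊤ _).2 p q fun e => by
              have := e.1
              lia
          rw [h0, map_zero] at hy'
          refine ⟨0, (dFam_zero _ _).trans (A.augHom_injective 0 ?_)⟩
          rw [map_zero]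
          exact Subtype.ext hy'
        | succ k =>
          have hk : (y : A.tot ⊤ _).1 ∈ A.tot ⊤ (k : ℤ) := by
            simpa using (y : A.tot ⊤ _).2
          obtain ⟨w, hw, hw'⟩ := A.reduce _ k _ hk (fun p q hp => A.vanish_above hk p q hp)
            (fun p q => by rw [hy']; exact A.augHom_succ _ _ p q)
          have hmem : (y : A.tot ⊤ _).1 - A.D w ∈ A.tot ⊤ (k : ℤ) := by
            have := A.D_mem hw
            rw [sub_add_cancel] at this
            exact sub_mem hk this
          obtain ⟨l', hl'⟩ := A.exists_augHom_eq k _ hmem hw' (by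
            rw [map_sub, A.D_D, hy', sub_zero]
            exact A.augHom_succ _ _ 0 k)
          refine ⟨Pi.single k l', (dFam_succ _ _ k).trans ?_⟩
          rw [Pi.single_eq_same]
          refine A.augHom_injective (k + 1) (Subtype.ext ?_)
          rw [← D_augHom, hl', map_sub, A.D_D, sub_zero, hy']
      · rintro ⟨w, hw⟩
        cases n with
        | zero =>
          rw [dFam_zero] at hw
          refine ⟨0, (map_zero _).trans ?_⟩
          exact ((congrArg (A.augHom 0) hw.symm).trans (map_zero _)).symm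
        | succ k =>
          rw [dFam_succ] at hw
          refine ⟨⟨(A.augHom k (w k)).1, by simpa using (A.augHom k (w k)).2⟩, Subtype.ext ?_⟩
          refine (A.totCx_d_val ⊤ _ _ (by lia) _).trans ?_
          exact (A.D_augHom k (w k)).trans (congrArg (fun z => (A.augHom (k + 1) z).1) hw))
  exact ⟨i ≪≫ (homologyScIso _ _).symm⟩

theorem isZero_tot_homology_of_neg (n : ℤ) (hn : n < 0) :
    IsZero ((A.totCx ⊤).homology n) := by
  haveI : Subsingleton (A.tot ⊤ n) :=
    ⟨fun a b => Subtype.ext (funext fun p => funext fun q =>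
      (a.2 p q fun e => by have := e.1; lia).trans (b.2 p q fun e => by have := e.1; lia).symm)⟩
  rw [← HomologicalComplex.exactAt_iff_isZero_homology]
  exact ShortComplex.exact_of_isZero_X₂ _
    (AddCommGrpCat.isZero_of_subsingleton (AddCommGrpCat.of (A.tot ⊤ n)))

end AugBicx

namespace Bicx

variable (B : Bicx.{v})

/-- The spectral object of the filtered total complex, in the homotopy category. -/
def coneSO : Triangulated.SpectralObject
    (HomotopyCategory AddCommGrpCat.{v} (ComplexShape.up ℤ)) EInt :=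
  (HomotopyCategory.spectralObjectMappingCone AddCommGrpCat.{v}).precomp B.totFunctor

/-- The spectral object of the cohomology of the filtered total complex. -/
def so : Abelian.SpectralObject AddCommGrpCat.{v} EInt :=
  SpSeqLib.mapHomological B.coneSO
    (HomotopyCategory.homologyFunctor AddCommGrpCat.{v} (ComplexShape.up ℤ) 0)

/-- Its values are the cohomology of mapping cones. -/
theorem nonempty_so_iso {i j : EInt} (h : i ≤ j) (n : ℤ) :
    Nonempty ((B.so.H n).obj (mk₁ (homOfLE h)) ≅
      (CochainComplex.mappingCone (B.totMap h)).homology n) :=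
  ⟨(HomotopyCategory.homologyFunctorFactors AddCommGrpCat.{v} (ComplexShape.up ℤ) n).app
    (CochainComplex.mappingCone (B.totMap h))⟩

/-- Its values in terms of a short exact sequence. -/
theorem nonempty_so_iso_of_shortExact {i j : EInt} (h : i ≤ j) (n : ℤ)
    {X₃ : CochainComplex AddCommGrpCat.{v} ℤ} (g : B.totCx j ⟶ X₃) (w : B.totMap h ≫ g = 0)
    (hS : (ShortComplex.mk _ g w).ShortExact) :
    Nonempty ((B.so.H n).obj (mk₁ (homOfLE h)) ≅ X₃.homology n) := by
  haveI := CochainComplex.mappingCone.quasiIso_descShortComplex hS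
  obtain ⟨e⟩ := B.nonempty_so_iso h n
  exact ⟨e ≪≫ asIso (HomologicalComplex.homologyMap
    (CochainComplex.mappingCone.descShortComplex (ShortComplex.mk _ g w)) n)⟩

theorem subsingleton_tot {j : EInt} {n : ℤ} (h : j ≤ ((-n - 1 : ℤ) : EInt)) :
    Subsingleton (B.tot j n) :=
  ⟨fun a b => Subtype.ext (funext fun p => funext fun q => by
    have h' : ∀ x : B.tot j n, x.1 p q = 0 := fun x => x.2 p q fun e => by
      have h1 := WithBotTop.coe_le_coe.1 (e.2.trans h)
      have h2 := e.1
      lia
    rw [h' a, h' b])⟩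

theorem isColumnBounded_so : IsColumnBounded B.so := by
  constructor
  · intro i j hij n hi
    have hall : ∀ (m : ℤ) (x : B.tot j m), (x.1 : B.All) ∈ B.tot i m := fun m x p q h =>
      x.2 p q fun e => h ⟨e.1, le_trans (WithBotTop.coe_le_coe.2 (by lia)) hi⟩
    obtain ⟨e⟩ := B.nonempty_so_iso_of_shortExact hij n
      (0 : B.totCx j ⟶ (0 : CochainComplex AddCommGrpCat.{v} ℤ)) comp_zero (by
        refine HomologicalComplex.shortExact_of_degreewise_shortExact _ fun m => ?_
        refine ShortComplex.ShortExact.mk' ?_ ?_ ?_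
        · rw [ShortComplex.ab_exact_iff]
          exact fun x _ => ⟨⟨(x : B.tot j m).1, hall m x⟩, Subtype.ext rfl⟩
        · exact (AddCommGrpCat.mono_iff_injective _).2 fun a b e =>
            Subtype.ext (congrArg (fun z : B.tot j m => z.1) e)
        · exact IsZero.epi ((HomologicalComplex.eval AddCommGrpCat.{v} (ComplexShape.up ℤ) m).map_isZero
            (isZero_zero _)) _)
    exact ((HomologicalComplex.homologyFunctor AddCommGrpCat.{v} (ComplexShape.up ℤ) n).map_isZero
      (isZero_zero _)).of_iso e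
  · intro i j hij n hj
    obtain ⟨e⟩ := B.nonempty_so_iso hij n
    refine IsZero.of_iso ?_ e
    rw [← HomologicalComplex.exactAt_iff_isZero_homology]
    refine ShortComplex.exact_of_isZero_X₂ _ ?_
    haveI := B.subsingleton_tot (j := j) (n := n)
      (hj.trans (WithBotTop.coe_le_coe.2 (by lia)))
    haveI := B.subsingleton_tot (j := i) (n := n + 1)
      ((hij.trans hj).trans (WithBotTop.coe_le_coe.2 (by lia)))
    show IsZero ((CochainComplex.mappingCone (B.totMap hij)).X n)
    rw [IsZero.iff_id_eq_zero]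
    refine CochainComplex.mappingCone.ext_from _ (n + 1) n rfl ?_ ?_
    · exact (AddCommGrpCat.isZero_of_subsingleton (AddCommGrpCat.of (B.tot i (n + 1)))).eq_of_src _ _
    · exact (AddCommGrpCat.isZero_of_subsingleton (AddCommGrpCat.of (B.tot j n))).eq_of_src _ _

theorem nonempty_so_top_iso (n : ℤ) :
    Nonempty ((B.so.H n).obj (mk₁ (homOfLE (bot_le : (⊥ : EInt) ≤ ⊤))) ≅
      (B.totCx ⊤).homology n) := by
  have hbot : ∀ m : ℤ, Subsingleton (B.tot ⊥ m) := fun m => B.subsingleton_tot bot_le
  have w : B.totMap (bot_le : (⊥ : EInt) ≤ ⊤) ≫ 𝟙 (B.totCx ⊤) = 0 := by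
    rw [Category.comp_id]
    ext m x
    obtain rfl : x = 0 := @Subsingleton.elim _ (hbot m) x 0
    exact (map_zero _).trans (map_zero _).symm
  refine B.nonempty_so_iso_of_shortExact _ n (𝟙 _) w ?_
  refine HomologicalComplex.shortExact_of_degreewise_shortExact _ fun m => ?_
  refine ShortComplex.ShortExact.mk' ?_ ?_ ?_
  · rw [ShortComplex.ab_exact_iff]
    exact fun x hx => ⟨0, (map_zero _).trans (Eq.symm hx)⟩
  · exact (AddCommGrpCat.mono_iff_injective _).2 fun a b _ =>
      @Subsingleton.elim _ (hbot m) a b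
  · exact (AddCommGrpCat.epi_iff_surjective _).2 fun y => ⟨y, rfl⟩

theorem nonempty_so_col_iso (p q : ℤ) :
    Nonempty ((B.so.H (p + q)).obj
        (mk₁ (homOfLE (WithBotTop.coe_le_coe.2 (show -p - 1 ≤ -p by lia)))) ≅
      (if 0 ≤ p ∧ 0 ≤ q then (B.col p.toNat).homology q.toNat
        else AddCommGrpCat.of PUnit.{v + 1})) := by
  by_cases hp : 0 ≤ p
  · obtain ⟨p, rfl⟩ := Int.eq_ofNat_of_zero_le hp
    obtain ⟨e⟩ := B.nonempty_so_iso_of_shortExact
      (WithBotTop.coe_le_coe.2 (show -(p : ℤ) - 1 ≤ -(p : ℤ) by lia)) (p + q)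
      (B.toCol p) (B.colSeq p).zero (B.colSeq_shortExact p)
    by_cases hq : 0 ≤ q
    · obtain ⟨q, rfl⟩ := Int.eq_ofNat_of_zero_le hq
      obtain ⟨i⟩ := nonempty_colCx_homology_iso (B.col p) p q
      rw [if_pos ⟨hp, hq⟩]
      exact ⟨e ≪≫ i.symm⟩
    · rw [if_neg fun h => hq h.2]
      exact ⟨e ≪≫ (isZero_colCx_homology (B.col p) p _ (by lia)).iso
        (AddCommGrpCat.isZero_of_subsingleton _)⟩
  · rw [if_neg fun h => hp h.1]
    exact ⟨(B.isColumnBounded_so.high _ _ _ _ (WithBotTop.coe_le_coe.2 (by lia))).iso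
      (AddCommGrpCat.isZero_of_subsingleton _)⟩

end Bicx

/-- The spectral sequence of a bicomplex with exact augmented rows. -/
theorem AugBicx.exists_spectralSequence (A : AugBicx.{v}) (P : ℕ → ℕ → AddCommGrpCat.{v})
    (H : ℕ → AddCommGrpCat.{v}) (eP : ∀ p q, Nonempty ((A.col p).homology q ≅ P p q))
    (eH : ∀ n, Nonempty (A.L.homology n ≅ H n)) :
    ∃ (E : CohomologicalSpectralSequence AddCommGrpCat.{v} 1)
      (a : SpSeq.Abutment E (fun n : ℤ =>
        if 0 ≤ n then H n.toNat else AddCommGrpCat.of PUnit.{v + 1})),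
      (∀ n, a.IsFinite n) ∧ SpSeq.IsBounded E ∧
      ∀ p q : ℤ, Nonempty ((E.page 1 le_rfl).X (p, q) ≅
        (if 0 ≤ p ∧ 0 ≤ q then P p.toNat q.toNat else AddCommGrpCat.of PUnit.{v + 1})) := by
  have h : ∀ n : ℤ, Nonempty ((A.so.H n).obj (mk₁ (homOfLE (bot_le : (⊥ : EInt) ≤ ⊤))) ≅
      if 0 ≤ n then H n.toNat else AddCommGrpCat.of PUnit.{v + 1}) := fun n => by
    obtain ⟨e⟩ := A.nonempty_so_top_iso n
    by_cases hn : 0 ≤ n
    · obtain ⟨n, rfl⟩ := Int.eq_ofNat_of_zero_le hn
      obtain ⟨i⟩ := A.nonempty_tot_homology_iso n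
      rw [if_pos hn]
      exact ⟨e ≪≫ i.symm ≪≫ (eH n).some⟩
    · rw [if_neg hn]
      exact ⟨e ≪≫ (A.isZero_tot_homology_of_neg n (by lia)).iso
        (AddCommGrpCat.isZero_of_subsingleton _)⟩
  refine SpSeqE1.exists_spectralSequence A.so A.isColumnBounded_so (fun n => (h n).some)
    (fun p q => if 0 ≤ p ∧ 0 ≤ q then P p.toNat q.toNat else AddCommGrpCat.of PUnit.{v + 1})
    fun p q => ?_
  obtain ⟨i⟩ := A.nonempty_so_col_iso p q
  by_cases hc : 0 ≤ p ∧ 0 ≤ q
  · rw [if_pos hc] at i
    rw [if_pos hc]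
    exact ⟨i ≪≫ (eP _ _).some⟩
  · rw [if_neg hc] at i
    rw [if_neg hc]
    exact ⟨i⟩

end Groth.Agent.SpSeqE1
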