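import Groth.Agent.SpSeqE1.Bicomplex
import Groth.Agent.SpSeqLib.ExtDerived
import Mathlib.CategoryTheory.Abelian.Injective.Resolution
import Mathlib.Algebra.Homology.HomologySequence
import Mathlib.CategoryTheory.Abelian.Refinements

/-!
# The spectral sequence of a resolution

An exact sequence `0 → F → C⁰ → C¹ → ⋯` in an abelian category with enough injectives gives a
spectral sequence `E₁^{p,q} = Ext^q(G, C^p) ⇒ Ext^{p+q}(G, F)`.
-/

set_option linter.style.haveILetI false

universe v u

open CategoryTheory Limits Abelian Opposite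
open scoped ZeroObject

noncomputable section

namespace Groth.Agent.SpSeqE1

variable {A : Type u} [Category.{v} A] [Abelian A] [EnoughInjectives A]

/-- An exact complex indexed by the natural numbers. -/
structure AcCx (A : Type u) [Category.{v} A] [Abelian A] where
  /-- The complex. -/
  cx : CochainComplex A ℕ
  exact : ∀ i, cx.ExactAt i

namespace AcCx

variable (M : AcCx A)

/-- The chosen injective hosting the cocycles in degree `p + 1`. -/
abbrev J (p : ℕ) : A := Injective.under (kernel (M.cx.d (p + 1) (p + 2)))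

/-- The same, shifted. -/
def L : ℕ → A
  | 0 => 0
  | p + 1 => M.J p

instance injective_L : ∀ p, Injective (M.L p)
  | 0 => (inferInstance : Injective (0 : A))
  | p + 1 => (inferInstance : Injective (M.J p))

/-- From a term to the cocycles of the next degree, in their injective. -/
def toJ (p : ℕ) : M.cx.X p ⟶ M.J p :=
  kernel.lift _ (M.cx.d p (p + 1)) (M.cx.d_comp_d _ _ _) ≫ Injective.ι _

/-- The extension to a term of the embedding of its cocycles. -/
def toL : ∀ p, M.cx.X p ⟶ M.L p
  | 0 => 0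
  | p + 1 => Injective.factorThru (Injective.ι _) (kernel.ι (M.cx.d (p + 1) (p + 2)))

theorem d_toJ (p : ℕ) : M.cx.d p (p + 1) ≫ M.toJ (p + 1) = 0 := by
  have h : M.cx.d p (p + 1) ≫ kernel.lift (M.cx.d (p + 2) (p + 3)) (M.cx.d (p + 1) (p + 2))
      (M.cx.d_comp_d _ _ _) = 0 := by
    rw [← cancel_mono (kernel.ι _), Category.assoc, kernel.lift_ι, M.cx.d_comp_d, zero_comp]
  rw [toJ, reassoc_of% h, zero_comp]

theorem d_toL (p : ℕ) : M.cx.d p (p + 1) ≫ M.toL (p + 1) = M.toJ p := by
  show M.cx.d p (p + 1) ≫ Injective.factorThru (Injective.ι _) _ = _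
  rw [toJ]
  conv_lhs => rw [← kernel.lift_ι (M.cx.d (p + 1) (p + 2)) (M.cx.d p (p + 1)) (M.cx.d_comp_d _ _ _)]
  rw [Category.assoc, Injective.comp_factorThru]

/-- The comparison between the two indexings. -/
def shift (p : ℕ) : M.J p ≅ M.L (p + 1) := Iso.refl _

/-- The differential of the split exact complex. -/
def dI (p : ℕ) : M.L p ⊞ M.J p ⟶ M.L (p + 1) ⊞ M.J (p + 1) :=
  biprod.snd ≫ (M.shift p).hom ≫ biprod.inl

theorem dI_dI (p : ℕ) : M.dI p ≫ M.dI (p + 1) = 0 := by
  simp [dI]

theorem eq_zero_of_dI (p : ℕ) {W : A} (x : W ⟶ M.L p ⊞ M.J p) (h : x ≫ M.dI p = 0) :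
    x ≫ biprod.snd = 0 := by
  have := congrArg (· ≫ biprod.fst) h
  simp only [dI, Category.assoc, biprod.inl_fst, Category.comp_id, zero_comp] at this
  rwa [← cancel_mono (M.shift p).hom, zero_comp, Category.assoc]

theorem exists_of_dI (p : ℕ) {W : A} (x : W ⟶ M.L (p + 1) ⊞ M.J (p + 1))
    (h : x ≫ M.dI (p + 1) = 0) : ∃ y, y ≫ M.dI p = x := by
  refine ⟨x ≫ biprod.fst ≫ (M.shift p).inv ≫ biprod.inr, biprod.hom_ext _ _ ?_ ?_⟩
  · simp [dI]
  · rw [M.eq_zero_of_dI (p + 1) x h]
    simp [dI]

instance mono_dI_zero : Mono (M.dI 0) :=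
  Preadditive.mono_of_cancel_zero _ fun g hg =>
    biprod.hom_ext _ _ ((isZero_zero A).eq_of_tgt _ _)
      ((M.eq_zero_of_dI 0 g hg).trans zero_comp.symm)

/-- A split exact complex of injectives containing the given one. -/
def I : CochainComplex A ℕ :=
  CochainComplex.of (fun p => M.L p ⊞ M.J p) M.dI M.dI_dI

instance injective_I (p : ℕ) : Injective (M.I.X p) :=
  (inferInstance : Injective (M.L p ⊞ M.J p))

theorem I_d (p : ℕ) : M.I.d p (p + 1) = M.dI p :=
  CochainComplex.of_d (fun p => M.L p ⊞ M.J p) M.dI p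

theorem exists_of_d (p : ℕ) {W : A} (x : W ⟶ M.I.X (p + 1))
    (h : x ≫ M.I.d (p + 1) (p + 2) = 0) : ∃ y, y ≫ M.I.d p (p + 1) = x := by
  rw [I_d] at h ⊢
  exact M.exists_of_dI p x h

theorem mono_d_zero : Mono (M.I.d 0 1) := by
  rw [I_d]
  exact M.mono_dI_zero

theorem exact_I (i : ℕ) : M.I.ExactAt i := by
  cases i with
  | zero =>
    rw [M.I.exactAt_iff' 0 0 1 (by simp) (by simp),
      ShortComplex.exact_iff_mono _ (M.I.shape 0 0 (by simp))]
    exact M.mono_d_zero
  | succ p =>
    rw [M.I.exactAt_iff' p (p + 1) (p + 2) (by simp) (by simp),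
      ShortComplex.exact_iff_exact_up_to_refinements]
    intro W x hx
    obtain ⟨y, hy⟩ := M.exists_of_d p x hx
    exact ⟨W, 𝟙 W, inferInstance, y, (Category.id_comp x).trans hy.symm⟩

/-- The components of the embedding. -/
def jf (p : ℕ) : M.cx.X p ⟶ M.L p ⊞ M.J p := biprod.lift (M.toL p) (M.toJ p)

theorem jf_dI (p : ℕ) : M.jf p ≫ M.dI p = M.cx.d p (p + 1) ≫ M.jf (p + 1) := by
  refine biprod.hom_ext _ _ ?_ ?_
  · simp only [jf, dI, Category.assoc, biprod.inl_fst, Category.comp_id, biprod.lift_fst,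
      biprod.lift_snd_assoc]
    exact (Category.comp_id _).trans (M.d_toL p).symm
  · simp [jf, dI, d_toJ]

theorem mono_jf (p : ℕ) : Mono (M.jf p) :=
  Preadditive.mono_of_cancel_zero _ fun {W} g hg => by
    have hJ : g ≫ M.toJ p = 0 := by
      have := congrArg (· ≫ biprod.snd) hg
      simpa [jf] using this
    have hL : g ≫ M.toL p = 0 := by
      have := congrArg (· ≫ biprod.fst) hg
      simpa [jf] using this
    have hd : g ≫ M.cx.d p (p + 1) = 0 := by
      rw [← kernel.lift_ι (M.cx.d (p + 1) (p + 2)) (M.cx.d p (p + 1)) (M.cx.d_comp_d _ _ _),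
        ← Category.assoc]
      have : g ≫ kernel.lift (M.cx.d (p + 1) (p + 2)) (M.cx.d p (p + 1)) (M.cx.d_comp_d _ _ _) = 0 := by
        rw [← cancel_mono (Injective.ι (kernel (M.cx.d (p + 1) (p + 2)))), Category.assoc, zero_comp]
        exact hJ
      rw [this, zero_comp]
    cases p with
    | zero =>
      have h0 := M.exact 0
      rw [M.cx.exactAt_iff' 0 0 1 (by simp) (by simp),
        ShortComplex.exact_iff_mono _ (M.cx.shape 0 0 (by simp))] at h0
      haveI : Mono (M.cx.d 0 1) := h0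
      exact (cancel_mono (M.cx.d 0 1)).1 (hd.trans zero_comp.symm)
    | succ p =>
      rw [← kernel.lift_ι (M.cx.d (p + 1) (p + 2)) g hd] at hL ⊢
      change (kernel.lift _ g hd ≫ kernel.ι _) ≫
        Injective.factorThru (Injective.ι (kernel (M.cx.d (p + 1) (p + 2)))) _ = 0 at hL
      rw [Category.assoc, Injective.comp_factorThru] at hL
      rw [(cancel_mono (Injective.ι _)).1 (hL.trans zero_comp.symm), zero_comp]

/-- The embedding in the split exact complex. -/
def j : M.cx ⟶ M.I where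
  f := M.jf
  comm' p p' h := by
    obtain rfl : p + 1 = p' := h
    rw [I_d]
    exact M.jf_dI p

instance mono_j_f (p : ℕ) : Mono (M.j.f p) := M.mono_jf p

/-- The short exact sequence of the embedding. -/
abbrev seq : ShortComplex (CochainComplex A ℕ) :=
  ShortComplex.mk M.j (cokernel.π M.j) (cokernel.condition _)

theorem seq_shortExact : M.seq.ShortExact :=
  haveI : Mono M.j := HomologicalComplex.mono_of_mono_f _ fun p => M.mono_j_f p
  { exact := ShortComplex.exact_cokernel _ }

/-- The next exact complex. -/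
def next : AcCx A where
  cx := cokernel M.j
  exact i := by
    rw [HomologicalComplex.exactAt_iff_isZero_homology]
    exact ShortComplex.Exact.isZero_X₂ (M.seq_shortExact.homology_exact₃ i (i + 1) rfl)
      (((M.I.exactAt_iff_isZero_homology i).1 (M.exact_I i)).eq_of_src _ _)
      (((M.cx.exactAt_iff_isZero_homology (i + 1)).1 (M.exact (i + 1))).eq_of_tgt _ _)

/-- The iteration. -/
def iter : ℕ → AcCx A
  | 0 => M
  | q + 1 => (iter q).next

/-- The projection to the next complex. -/
def proj (q : ℕ) : (M.iter q).I ⟶ (M.iter (q + 1)).cx := cokernel.π (M.iter q).j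

theorem j_proj (q : ℕ) : (M.iter q).j ≫ M.proj q = 0 := cokernel.condition _

theorem seq_proj_shortExact (q : ℕ) : (ShortComplex.mk _ _ (M.j_proj q)).ShortExact :=
  (M.iter q).seq_shortExact

/-- The vertical maps. -/
def v (q : ℕ) : (M.iter q).I ⟶ (M.iter (q + 1)).I :=
  M.proj q ≫ (M.iter (q + 1)).j

theorem j_v (q : ℕ) : (M.iter q).j ≫ M.v q = 0 := by
  rw [v, reassoc_of% (M.j_proj q), zero_comp]

theorem v_v (q : ℕ) : M.v q ≫ M.v (q + 1) = 0 := by
  rw [v, Category.assoc, j_v, comp_zero]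

/-- A column. -/
def column (p : ℕ) : CochainComplex A ℕ :=
  CochainComplex.of (fun q => (M.iter q).I.X p) (fun q => (M.v q).f p) fun q => by
    rw [← HomologicalComplex.comp_f, v_v, HomologicalComplex.zero_f]

theorem column_d (p q : ℕ) : (M.column p).d q (q + 1) = (M.v q).f p :=
  CochainComplex.of_d (fun q => (M.iter q).I.X p) (fun q => (M.v q).f p) q

/-- The horizontal maps. -/
def horiz (p : ℕ) : M.column p ⟶ M.column (p + 1) where
  f q := (M.iter q).I.d p (p + 1)
  comm' q q' h := by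
    obtain rfl : q + 1 = q' := h
    rw [column_d, column_d]
    exact ((M.v q).comm p (p + 1)).symm

/-- The augmentation of a column. -/
def colAug (p : ℕ) : M.cx.X p ⟶ (M.column p).X 0 := (M.iter 0).j.f p

theorem colAug_d (p : ℕ) : M.colAug p ≫ (M.column p).d 0 1 = 0 := by
  rw [column_d]
  show (M.iter 0).j.f p ≫ (M.v 0).f p = 0
  rw [← HomologicalComplex.comp_f, j_v, HomologicalComplex.zero_f]

theorem exact_j_v (q p : ℕ) :
    (ShortComplex.mk ((M.iter q).j.f p) ((M.v q).f p) (by
      rw [← HomologicalComplex.comp_f, j_v, HomologicalComplex.zero_f])).Exact := by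
  have h := ((M.seq_proj_shortExact q).map_of_exact
    (HomologicalComplex.eval A (ComplexShape.up ℕ) p)).exact
  rw [ShortComplex.exact_iff_exact_up_to_refinements] at h ⊢
  intro W x hx
  refine h x ?_
  dsimp [v] at hx
  rw [← Category.assoc] at hx
  exact (cancel_mono ((M.iter (q + 1)).j.f p)).1 (hx.trans zero_comp.symm)

theorem epi_proj_f (q p : ℕ) : Epi ((M.proj q).f p) :=
  ((M.seq_proj_shortExact q).map_of_exact (HomologicalComplex.eval A (ComplexShape.up ℕ) p)).epi_g

theorem exact_column (p q : ℕ) : (M.column p).ExactAt (q + 1) := by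
  rw [(M.column p).exactAt_iff' q (q + 1) (q + 2) (by simp) (by simp),
    ShortComplex.exact_iff_exact_up_to_refinements]
  intro W x hx
  change W ⟶ (M.iter (q + 1)).I.X p at x
  have hx' : x ≫ (M.v (q + 1)).f p = 0 :=
    (congrArg (x ≫ ·) (M.column_d p (q + 1))).symm.trans hx
  obtain ⟨W₁, π₁, hπ₁, y, hy⟩ := (M.exact_j_v (q + 1) p).exact_up_to_refinements x hx'
  haveI := M.epi_proj_f q p
  obtain ⟨W₂, π₂, hπ₂, z, hz⟩ := surjective_up_to_refinements_of_epi ((M.proj q).f p) y
  refine ⟨W₂, π₂ ≫ π₁, inferInstance, z, ?_⟩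
  show (π₂ ≫ π₁) ≫ x = z ≫ (M.column p).d q (q + 1)
  dsimp at hy
  rw [column_d]
  refine ((Category.assoc _ _ _).trans (congrArg (π₂ ≫ ·) hy)).trans ?_
  refine ((Category.assoc _ _ _).symm.trans (congrArg (· ≫ _) hz)).trans ?_
  exact Category.assoc _ _ _

/-- Each column resolves its term of the given complex. -/
def resolution (p : ℕ) : InjectiveResolution (M.cx.X p) where
  cocomplex := M.column p
  injective q := (M.iter q).injective_I p
  ι := (CochainComplex.fromSingle₀Equiv _ _).symm ⟨M.colAug p, M.colAug_d p⟩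
  quasiIso := ⟨fun n => by
    cases n
    · rw [CochainComplex.quasiIsoAt₀_iff, ShortComplex.quasiIso_iff_of_zeros]
      · refine (ShortComplex.exact_and_mono_f_iff_of_iso ?_).2
          ⟨M.exact_j_v 0 p, M.mono_j_f p⟩
        exact ShortComplex.isoMk (Iso.refl _) (Iso.refl _) (Iso.refl _)
          (by
            refine (Category.id_comp _).trans (Eq.trans ?_ (Category.comp_id _).symm)
            exact (CochainComplex.fromSingle₀Equiv_symm_apply_f_zero (V := A) (C := M.column p) (M.colAug p) (M.colAug_d p)).symm)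
          (by
            refine (Category.id_comp _).trans (Eq.trans ?_ (Category.comp_id _).symm)
            exact (M.column_d p 0).symm)
      all_goals rfl
    · rw [quasiIsoAt_iff_exactAt]
      · apply M.exact_column
      · apply CochainComplex.exactAt_succ_single_obj⟩

variable (G : A)

/-- `Hom(G, -)`, applied to the columns. -/
abbrev homCol (p : ℕ) : CochainComplex AddCommGrpCat.{v} ℕ :=
  ((preadditiveCoyoneda.obj (op G)).mapHomologicalComplex (ComplexShape.up ℕ)).obj (M.column p)

/-- `Hom(G, -)`, applied to the horizontal maps. -/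
abbrev homHoriz (p : ℕ) : M.homCol G p ⟶ M.homCol G (p + 1) :=
  ((preadditiveCoyoneda.obj (op G)).mapHomologicalComplex (ComplexShape.up ℕ)).map (M.horiz p)

theorem horiz_horiz (p : ℕ) : M.horiz p ≫ M.horiz (p + 1) = 0 := by
  ext q
  exact (M.iter q).I.d_comp_d _ _ _

theorem exists_of_d_eq_zero (p q : ℕ) (x : G ⟶ (M.iter q).I.X (p + 1))
    (hx : x ≫ (M.iter q).I.d (p + 1) (p + 2) = 0) :
    ∃ y : G ⟶ (M.iter q).I.X p, y ≫ (M.iter q).I.d p (p + 1) = x :=
  (M.iter q).exists_of_d p x hx

theorem injective_d_zero (q : ℕ) :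
    Function.Injective fun x : G ⟶ (M.iter q).I.X 0 => x ≫ (M.iter q).I.d 0 1 := by
  intro x y h
  haveI := (M.iter q).mono_d_zero
  exact (cancel_mono ((M.iter q).I.d 0 1)).1 h

/-- The bicomplex. -/
def bicx : AugBicx.{v} where
  col p := M.homCol G (p + 1)
  δ p := M.homHoriz G (p + 1)
  δ_δ p := by
    rw [← Functor.map_comp, horiz_horiz, Functor.map_zero]
  L := M.homCol G 0
  ε := M.homHoriz G 0
  ε_δ := by
    rw [← Functor.map_comp, horiz_horiz, Functor.map_zero]
  mono_ε q := fun x y h => M.injective_d_zero G q h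
  exact_zero q x hx := M.exists_of_d_eq_zero G 0 q x hx
  exact_succ p q x hx := M.exists_of_d_eq_zero G (p + 1) q x hx

variable [HasExt.{v} A]

/-- The spectral sequence of a resolution. -/
theorem exists_spectralSequence (P : ℕ → ℕ → AddCommGrpCat.{v}) (H : ℕ → AddCommGrpCat.{v})
    (eP : ∀ p q, Nonempty (AddCommGrpCat.of (Ext.{v} G (M.cx.X (p + 1)) q) ≅ P p q))
    (eH : ∀ n, Nonempty (AddCommGrpCat.of (Ext.{v} G (M.cx.X 0) n) ≅ H n)) :
    ∃ (E : CohomologicalSpectralSequence AddCommGrpCat.{v} 1)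
      (a : SpSeq.Abutment E (fun n : ℤ =>
        if 0 ≤ n then H n.toNat else AddCommGrpCat.of PUnit.{v + 1})),
      (∀ n, a.IsFinite n) ∧ SpSeq.IsBounded E ∧
      ∀ p q : ℤ, Nonempty ((E.page 1 le_rfl).X (p, q) ≅
        (if 0 ≤ p ∧ 0 ≤ q then P p.toNat q.toNat else AddCommGrpCat.of PUnit.{v + 1})) := by
  refine (M.bicx G).exists_spectralSequence P H (fun p q => ?_) (fun n => ?_)
  · obtain ⟨i⟩ := SpSeqLib.nonempty_homology_homCx_iso G (M.resolution (p + 1)) q
    exact ⟨i ≪≫ (eP p q).some⟩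
  · obtain ⟨i⟩ := SpSeqLib.nonempty_homology_homCx_iso G (M.resolution 0) n
    exact ⟨i ≪≫ (eH n).some⟩

end AcCx

end Groth.Agent.SpSeqE1
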