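import Groth.Agent.SpSeqE1.Bicomplex

/-!
# The spectral sequence of a bicomplex in terms of the cohomology of its total complex
-/

set_option linter.style.haveILetI false

universe v

open CategoryTheory Limits ComposableArrows
open scoped ZeroObject

noncomputable section

namespace Groth.Agent.SpSeqE1

namespace Bicx

variable (B : Bicx.{v})

/-- The total complex lives in non-negative degrees. -/
theorem isZero_totCx_homology_of_neg (n : ℤ) (hn : n < 0) :
    IsZero ((B.totCx ⊤).homology n) := by
  haveI : Subsingleton (B.tot ⊤ n) :=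
    ⟨fun a b => Subtype.ext (funext fun p => funext fun q =>
      (a.2 p q fun e => by have := e.1; lia).trans (b.2 p q fun e => by have := e.1; lia).symm)⟩
  rw [← HomologicalComplex.exactAt_iff_isZero_homology]
  exact ShortComplex.exact_of_isZero_X₂ _
    (AddCommGrpCat.isZero_of_subsingleton (AddCommGrpCat.of (B.tot ⊤ n)))

/-- The spectral sequence of the filtration by columns. -/
theorem exists_spectralSequence_of_tot (P : ℕ → ℕ → AddCommGrpCat.{v})
    (H : ℕ → AddCommGrpCat.{v}) (eP : ∀ p q, Nonempty ((B.col p).homology q ≅ P p q))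
    (eH : ∀ n : ℕ, Nonempty ((B.totCx ⊤).homology (n : ℤ) ≅ H n)) :
    ∃ (E : CohomologicalSpectralSequence AddCommGrpCat.{v} 1)
      (a : SpSeq.Abutment E (fun n : ℤ =>
        if 0 ≤ n then H n.toNat else AddCommGrpCat.of PUnit.{v + 1})),
      (∀ n, a.IsFinite n) ∧ SpSeq.IsBounded E ∧
      ∀ p q : ℤ, Nonempty ((E.page 1 le_rfl).X (p, q) ≅
        (if 0 ≤ p ∧ 0 ≤ q then P p.toNat q.toNat else AddCommGrpCat.of PUnit.{v + 1})) := by
  have h : ∀ n : ℤ, Nonempty ((B.so.H n).obj (mk₁ (homOfLE (bot_le : (⊥ : EInt) ≤ ⊤))) ≅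
      if 0 ≤ n then H n.toNat else AddCommGrpCat.of PUnit.{v + 1}) := fun n => by
    obtain ⟨e⟩ := B.nonempty_so_top_iso n
    by_cases hn : 0 ≤ n
    · obtain ⟨n, rfl⟩ := Int.eq_ofNat_of_zero_le hn
      rw [if_pos hn]
      exact ⟨e ≪≫ (eH n).some⟩
    · rw [if_neg hn]
      exact ⟨e ≪≫ (B.isZero_totCx_homology_of_neg n (by lia)).iso
        (AddCommGrpCat.isZero_of_subsingleton _)⟩
  refine SpSeqE1.exists_spectralSequence B.so B.isColumnBounded_so (fun n => (h n).some)
    (fun p q => if 0 ≤ p ∧ 0 ≤ q then P p.toNat q.toNat else AddCommGrpCat.of PUnit.{v + 1})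
    fun p q => ?_
  obtain ⟨i⟩ := B.nonempty_so_col_iso p q
  by_cases hc : 0 ≤ p ∧ 0 ≤ q
  · rw [if_pos hc] at i
    rw [if_pos hc]
    exact ⟨i ≪≫ (eP _ _).some⟩
  · rw [if_neg hc] at i
    rw [if_neg hc]
    exact ⟨i⟩

/-- An element of column zero, in the total complex. -/
def atZero (n : ℕ) : (B.col 0).X n →+ B.tot ⊤ (n : ℤ) :=
  ((AddMonoidHom.single (fun p => Fam (B.col p)) 0).comp
    (AddMonoidHom.single (fun q => ((B.col 0).X q : Type v)) n)).codRestrict _ fun l p q h => by
    show Pi.single (M := fun p => Fam (B.col p)) 0 (Pi.single n l) p q = 0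
    by_cases hp : p = 0
    · subst hp
      rw [Pi.single_eq_same, Pi.single_eq_of_ne fun e => h ⟨by simp [e], le_top⟩]
    · rw [Pi.single_eq_of_ne hp]
      rfl

theorem atZero_self (n : ℕ) (l : (B.col 0).X n) : (B.atZero n l).1 0 n = l := by
  show Pi.single (M := fun p => Fam (B.col p)) 0 (Pi.single n l) 0 n = _
  rw [Pi.single_eq_same, Pi.single_eq_same]

theorem atZero_succ (n : ℕ) (l : (B.col 0).X n) (p q : ℕ) : (B.atZero n l).1 (p + 1) q = 0 := by
  show Pi.single (M := fun p => Fam (B.col p)) 0 (Pi.single n l) (p + 1) q = 0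
  rw [Pi.single_eq_of_ne p.succ_ne_zero]
  rfl

theorem atZero_ne (n : ℕ) (l : (B.col 0).X n) {q : ℕ} (h : q ≠ n) : (B.atZero n l).1 0 q = 0 :=
  (B.atZero n l).2 0 q fun e => h (by have := e.1; push_cast at this; lia)

/-- The differential of an element of column zero killed by the horizontal differential. -/
theorem D_atZero (n : ℕ) (l : (B.col 0).X n) (h : (B.δ 0).f n l = 0) :
    B.D (B.atZero n l).1 = (B.atZero (n + 1) ((B.col 0).d n (n + 1) l)).1 := by
  funext p q
  cases p with
  | zero =>
    rw [D_apply, dh_zero, zero_add, dv_apply, pow_zero, one_smul]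
    cases q with
    | zero => rw [dFam_zero, atZero_ne _ _ _ (Nat.succ_ne_zero n).symm]
    | succ q =>
      rw [dFam_succ]
      by_cases hq : q = n
      · subst hq
        rw [atZero_self, atZero_self]
      · rw [atZero_ne _ _ _ hq, map_zero, atZero_ne _ _ _ fun e => hq (by lia)]
  | succ p =>
    rw [atZero_succ, D_apply, dh_succ, dv_apply,
      show (B.atZero n l).1 (p + 1) = 0 from funext fun q => B.atZero_succ n l p q, map_zero,
      Pi.zero_apply, smul_zero, add_zero]
    cases p with
    | zero =>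
      by_cases hq : q = n
      · subst hq
        rw [atZero_self, h]
      · rw [atZero_ne _ _ _ hq, map_zero]
    | succ p => rw [atZero_succ, map_zero]

end Bicx

end Groth.Agent.SpSeqE1
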