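import Groth.Agent.SpSeqLib.Convergence

/-!
# The spectral sequence starting at page one of a column-indexed spectral object

A spectral object indexed by `EInt`, in which the step `j` stands for "columns `p ≥ -j`", gives a
spectral sequence starting at page one, with `E₁^{p,q} = H^{p+q}(-p-1 ≤ -p)`, abutting to
`H^n(⊥ ≤ ⊤)`.
-/

set_option linter.style.haveILetI false

universe v u

open CategoryTheory Limits ComposableArrows Abelian

noncomputable section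

namespace Groth.Agent.SpSeqE1

variable {C : Type u} [Category.{v} C] [Abelian C]

set_option backward.isDefEq.respectTransparency false in
/-- The recipe for a spectral sequence starting at page one. -/
@[simps!]
def coreE₁ :
    SpectralObject.SpectralSequenceDataCore EInt
      (fun r ↦ ComplexShape.up' (⟨r, 1 - r⟩ : ℤ × ℤ)) 1 where
  deg pq := pq.1 + pq.2
  i₀ r pq hr := (-pq.1 - r :)
  i₁ pq := (-pq.1 - 1 :)
  i₂ pq := (-pq.1 :)
  i₃ r pq hr := (-pq.1 + r - 1 :)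
  le₀₁ r pq hr := by simp; lia
  le₁₂ pq := by simp
  le₂₃ r pq hr := by simp; lia
  hc := by rintro r pq _ rfl _; dsimp; lia
  hc₀₂ := by rintro r pq hr rfl _; simp; lia
  hc₁₃ := by rintro r pq hr rfl _; simp
  antitone_i₀ r r' pq hr hrr' := by simp; lia
  monotone_i₃ r r' pq hr hrr' := by simp; lia
  i₀_prev := by
    rintro r r' hr pq rfl _ _
    dsimp
    lia +mbtc
  i₃_next := by
    rintro r r' hr pq rfl _ _
    dsimp
    lia +mbtc

instance : coreE₁.HasFirstPageComputation where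
  hi₀₁ pq := by simp
  hi₂₃ pq := by simp

instance (Y : SpectralObject C EInt) : Y.HasSpectralSequence coreE₁ where
  isZero_H_obj_mk₁_i₀_le r r' pq hpq n hn hrr' hr := by
    exfalso
    exact hpq _ rfl
  isZero_H_obj_mk₁_i₃_le r r' pq hpq n hn hrr' hr := by
    exfalso
    exact hpq (pq - (r, 1 - r)) (by simp)

/-- Only the columns `0 ≤ p ≤ n + 1` matter in degree `n`. -/
structure IsColumnBounded (Y : SpectralObject C EInt) : Prop where
  /-- Vanishing of the columns `p < 0`. -/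
  high (i j : EInt) (hij : i ≤ j) (n : ℤ) (hi : (0 : ℤ) ≤ i) :
    IsZero ((Y.H n).obj (mk₁ (homOfLE hij)))
  /-- Vanishing of the columns `p > n + 1`. -/
  low (i j : EInt) (hij : i ≤ j) (n : ℤ) (hj : j ≤ ((-n - 2 : ℤ) : EInt)) :
    IsZero ((Y.H n).obj (mk₁ (homOfLE hij)))

variable (Y : SpectralObject C EInt) (hY : IsColumnBounded Y) {H : ℤ → C}
  (e : ∀ n, (Y.H n).obj (mk₁ (homOfLE (bot_le : (⊥ : EInt) ≤ ⊤))) ≅ H n)

/-- The spectral sequence. -/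
abbrev E₁SpectralSequence : CohomologicalSpectralSequence C 1 := Y.spectralSequence coreE₁

/-- The filtration on the abutment. -/
def totFil (n p : ℤ) : Subobject (H n) :=
  imageSubobject (SpSeqLib.toTot Y n ((-p : ℤ) : EInt) ≫ (e n).hom)

theorem totFil_anti (n : ℤ) : Antitone (totFil Y e n) := fun p p' hp =>
  SpSeqLib.imageSubobject_le_of_fac
    ((Y.H n).map (twoδ₂Toδ₁' (⊥ : EInt) _ _ bot_le (WithBotTop.coe_le_coe.2 (by lia))))
    (by rw [← Category.assoc, SpSeqLib.toTot_fac])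

include hY in
theorem totFil_eq_bot (n : ℤ) : totFil Y e n (n + 2) = ⊥ := by
  have h : IsZero ((Y.H n).obj (mk₁ (homOfLE (bot_le : (⊥ : EInt) ≤ ((-(n + 2) : ℤ) : EInt))))) :=
    hY.low _ _ _ n (WithBotTop.coe_le_coe.2 (by lia))
  have e0 : SpSeqLib.toTot Y n ((-(n + 2) : ℤ) : EInt) ≫ (e n).hom = 0 := h.eq_of_src _ _
  simp only [totFil, e0, imageSubobject_zero]

include hY in
theorem totFil_eq_top (n : ℤ) : totFil Y e n 0 = ⊤ := by
  haveI : Epi (SpSeqLib.toTot Y n ((-(0 : ℤ) : ℤ) : EInt)) :=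
    (Y.exact₂ _ _ _ rfl n).epi_f ((hY.high _ _ le_top n
      (WithBotTop.coe_le_coe.2 (by lia))).eq_of_tgt _ _)
  haveI : Epi (SpSeqLib.toTot Y n ((-(0 : ℤ) : ℤ) : EInt) ≫ (e n).hom) := epi_comp _ _
  haveI : Epi (totFil Y e n 0).arrow := epi_of_epi_fac (imageSubobject_arrow_comp _)
  haveI : IsIso (totFil Y e n 0).arrow := isIso_of_mono_of_epi _
  exact Subobject.eq_top_of_isIso_arrow _

include hY in
theorem isZero_page_of_lt (r : ℤ) (hr : 1 ≤ r) (p q : ℤ) (h : p < 0 ∨ q ≤ -2) :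
    IsZero (((E₁SpectralSequence Y).page r hr).X (p, q)) := by
  refine Y.isZero_spectralSequence_page_X_of_isZero_H' coreE₁ r hr (p, q) ?_
  show IsZero ((Y.H (p + q)).obj
    (mk₁ (homOfLE (WithBotTop.coe_le_coe.2 (show -p - 1 ≤ -p by lia)))))
  rcases h with h | h
  · exact hY.high _ _ _ _ (WithBotTop.coe_le_coe.2 (by lia))
  · exact hY.low _ _ _ _ (WithBotTop.coe_le_coe.2 (by lia))

/-- A page from which position `pq` is stationary. -/
abbrev stRank (pq : ℤ × ℤ) : ℤ := max 1 (max (pq.1 + 1) (pq.2 + 4))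

include hY in
theorem stationaryAt (pq : ℤ × ℤ) :
    SpSeq.StationaryAt (E₁SpectralSequence Y) pq (stRank pq) := by
  refine ⟨le_max_left _ _, fun r h₀ hr => ⟨?_, ?_⟩⟩
  · refine (isZero_page_of_lt Y hY r h₀ _ _ (Or.inl ?_)).eq_of_src _ _
    show pq.1 - r < 0
    lia
  · refine (isZero_page_of_lt Y hY r h₀ _ _ (Or.inr ?_)).eq_of_tgt _ _
    show pq.2 + (1 - r) ≤ -2
    lia

include hY in
/-- The limit term. -/
theorem nonempty_pageIso (pq : ℤ × ℤ) :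
    Nonempty (((E₁SpectralSequence Y).page (stRank pq) (le_max_left _ _)).X pq ≅
      Y.E (homOfLE (bot_le : (⊥ : EInt) ≤ ((-pq.1 - 1 : ℤ) : EInt)))
        (homOfLE (WithBotTop.coe_le_coe.2 (show -pq.1 - 1 ≤ -pq.1 by lia)))
        (homOfLE (le_top : ((-pq.1 : ℤ) : EInt) ≤ ⊤))
        (pq.1 + pq.2 - 1) (pq.1 + pq.2) (pq.1 + pq.2 + 1)) := by
  set r := stRank pq
  have hr : (1 : ℤ) ≤ r := le_max_left _ _
  have h₁ : ((-pq.1 - r : ℤ) : EInt) ≤ ((-pq.1 - 1 : ℤ) : EInt) :=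
    WithBotTop.coe_le_coe.2 (by lia)
  have h₂ : ((-pq.1 - 1 : ℤ) : EInt) ≤ ((-pq.1 : ℤ) : EInt) := WithBotTop.coe_le_coe.2 (by lia)
  have h₃ : ((-pq.1 : ℤ) : EInt) ≤ ((-pq.1 + r - 1 : ℤ) : EInt) := WithBotTop.coe_le_coe.2 (by lia)
  exact ⟨Y.spectralSequencePageXIso coreE₁ r hr pq
      ((-pq.1 - r : ℤ) : EInt) ((-pq.1 - 1 : ℤ) : EInt) ((-pq.1 : ℤ) : EInt)
      ((-pq.1 + r - 1 : ℤ) : EInt)
      rfl rfl rfl rfl (pq.1 + pq.2 - 1) (pq.1 + pq.2) (pq.1 + pq.2 + 1) rfl ≪≫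
    (Y.isoMapFourδ₁Toδ₀' ⊥ _ _ _ _ bot_le h₁ h₂ h₃ (pq.1 + pq.2 - 1) (pq.1 + pq.2)
      (pq.1 + pq.2 + 1)
      (hY.low _ _ _ _ (WithBotTop.coe_le_coe.2 (by lia)))).symm ≪≫
    Y.isoMapFourδ₄Toδ₃' ⊥ _ _ _ ⊤ bot_le h₂ h₃ le_top (pq.1 + pq.2 - 1) (pq.1 + pq.2)
      (pq.1 + pq.2 + 1)
      (hY.high _ _ _ _ (WithBotTop.coe_le_coe.2 (by lia)))⟩

theorem nonempty_grIso (p q : ℤ) :
    Nonempty (Y.E (homOfLE (bot_le : (⊥ : EInt) ≤ ((-p - 1 : ℤ) : EInt)))
        (homOfLE (WithBotTop.coe_le_coe.2 (show -p - 1 ≤ -p by lia)))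
        (homOfLE (le_top : ((-p : ℤ) : EInt) ≤ ⊤)) (p + q - 1) (p + q) (p + q + 1) ≅
      SpSeq.grPiece (totFil Y e (p + q)) (totFil_anti Y e (p + q)) p) := by
  obtain ⟨n, hn⟩ : ∃ n, n = p + q := ⟨_, rfl⟩
  rw! [← hn]
  have h₂ : ((-p - 1 : ℤ) : EInt) ≤ ((-p : ℤ) : EInt) := WithBotTop.coe_le_coe.2 (by lia)
  let f := SpSeqLib.toTot Y n ((-p : ℤ) : EInt) ≫ (e n).hom
  let a := (Y.H n).map (twoδ₂Toδ₁' (⊥ : EInt) ((-p - 1 : ℤ) : EInt) _ bot_le h₂)
  let k := Y.δ (homOfLE (bot_le : (⊥ : EInt) ≤ ((-p : ℤ) : EInt)))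
    (homOfLE (le_top : ((-p : ℤ) : EInt) ≤ ⊤)) (n - 1) n
  have w : k ≫ f = 0 := by
    rw [← Category.assoc]
    refine (congrArg (· ≫ (e n).hom) ?_).trans zero_comp
    exact Y.zero₁ _ _ _ rfl (n - 1) n
  have hk : (ShortComplex.mk k f w).Exact := by
    have h1 := Y.exact₁ (homOfLE (bot_le : (⊥ : EInt) ≤ ((-p : ℤ) : EInt)))
      (homOfLE (le_top : ((-p : ℤ) : EInt) ≤ ⊤)) (homOfLE (bot_le : (⊥ : EInt) ≤ ⊤)) rfl
      (n - 1) n
    let t : Y.sc₁ (homOfLE (bot_le : (⊥ : EInt) ≤ ((-p : ℤ) : EInt)))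
        (homOfLE (le_top : ((-p : ℤ) : EInt) ≤ ⊤)) (homOfLE (bot_le : (⊥ : EInt) ≤ ⊤)) rfl
        (n - 1) n ≅ ShortComplex.mk k f w :=
      ShortComplex.isoMk (Iso.refl _) (Iso.refl _) (e n)
        ((Category.id_comp _).trans (Category.comp_id _).symm) (Category.id_comp _)
    exact ShortComplex.exact_of_iso t h1
  have hfil : totFil Y e n (p + 1) = imageSubobject (a ≫ f) := by
    rw [← Category.assoc, SpSeqLib.toTot_fac]
    exact congrArg (fun z : ℤ => imageSubobject (SpSeqLib.toTot Y n (z : EInt) ≫ (e n).hom))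
      (show -(p + 1) = -p - 1 by lia)
  have h : imageSubobject (a ≫ f) ≤ imageSubobject f := imageSubobject_comp_le a f
  let S := Y.cokernelSequenceE (homOfLE (bot_le : (⊥ : EInt) ≤ ((-p - 1 : ℤ) : EInt))) (homOfLE h₂)
    (homOfLE (le_top : ((-p : ℤ) : EInt) ≤ ⊤)) (homOfLE bot_le) rfl (n - 1) n (n + 1)
  haveI : Epi S.g :=
    (inferInstance : Epi (Y.cokernelSequenceE (homOfLE (bot_le : (⊥ : EInt) ≤ ((-p - 1 : ℤ) : EInt)))
      (homOfLE h₂) (homOfLE (le_top : ((-p : ℤ) : EInt) ≤ ⊤)) (homOfLE bot_le) rfl (n - 1) n (n + 1)).g)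
  obtain ⟨i⟩ := @SpSeqLib.nonempty_iso_subquot C _ _ _ _ _ _ f a k w hk h _ S.g S.zero ‹Epi S.g›
    (Y.cokernelSequenceE_exact _ _ _ (homOfLE bot_le) rfl (n - 1) n (n + 1))
  refine ⟨i ≪≫ eqToIso ?_⟩
  unfold SpSeq.grPiece
  congr 1
  exact hfil.symm

/-- The abutment. -/
def abutment : SpSeq.Abutment (E₁SpectralSequence Y) H where
  fil := totFil Y e
  anti := totFil_anti Y e
  rk := stRank
  stat := stationaryAt Y hY
  β pq := (nonempty_pageIso Y hY pq).some ≪≫ (nonempty_grIso Y e pq.1 pq.2).some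

theorem abutment_isFinite (n : ℤ) : (abutment Y hY e).IsFinite n :=
  ⟨⟨0, totFil_eq_top Y hY e n⟩, ⟨n + 2, totFil_eq_bot Y hY e n⟩⟩

include hY in
theorem isBounded_spectralSequence : SpSeq.IsBounded (E₁SpectralSequence Y) := fun n => by
  refine (Set.Finite.subset (Finset.Icc (0 : ℤ) (n + 1)).finite_toSet) fun p hp => ?_
  by_contra hc
  refine hp (isZero_page_of_lt Y hY 1 le_rfl p (n - p) ?_)
  simp only [Finset.coe_Icc, Set.mem_Icc, not_and, not_le] at hc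
  lia

/-- The first page. -/
def pageOneIso (p q : ℤ) :
    ((E₁SpectralSequence Y).page 1 le_rfl).X (p, q) ≅
      (Y.H (p + q)).obj (mk₁ (homOfLE (WithBotTop.coe_le_coe.2 (show -p - 1 ≤ -p by lia)))) :=
  Y.spectralSequenceFirstPageXIso coreE₁ (p, q) ((-p - 1 : ℤ) : EInt)
    ((-p : ℤ) : EInt) rfl rfl (p + q) rfl

include hY e in
/-- The spectral sequence, with its abutment. -/
theorem exists_spectralSequence (P : ℤ → ℤ → C)
    (e₁ : ∀ p q, Nonempty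
      ((Y.H (p + q)).obj (mk₁ (homOfLE (WithBotTop.coe_le_coe.2 (show -p - 1 ≤ -p by lia)))) ≅ P p q)) :
    ∃ (E : CohomologicalSpectralSequence C 1) (a : SpSeq.Abutment E H),
      (∀ n, a.IsFinite n) ∧ SpSeq.IsBounded E ∧
      ∀ p q : ℤ, Nonempty ((E.page 1 le_rfl).X (p, q) ≅ P p q) :=
  ⟨_, abutment Y hY e, abutment_isFinite Y hY e, isBounded_spectralSequence Y hY,
    fun p q => ⟨pageOneIso Y p q ≪≫ (e₁ p q).some⟩⟩

end Groth.Agent.SpSeqE1
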